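import Cfsg.Agent.EqLemmas
import Cfsg.Agent.Lib.SympGeom.Iso
import Cfsg.Agent.Lib.Elusive.Geo
import Cfsg.Agent.Lib.Linear.Symplectic

/-!
# A self-adjoint field subalgebra of a symplectic space (owner: helper43)

`K` is a field of prime degree `k` of matrices, self-adjoint and isotropic for the standard alternating
form `f` on `F^(2d)`.
* `dvd_of_dim_normalizer` : the symplectic group over `K` lies in the normaliser
* `fix_dvd`        : the fixed space of an element centralising `K` has dimension divisible by `k`,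
                     and by `2 k` when it is non-degenerate
* `fix_le`         : `k * dim fix ≤ 2d` for an element normalising but not centralising `K`
* `eq_degree`      : such an element has prime order `k`
-/

set_option autoImplicit false

namespace Cfsg.Agent.SpFieldExt

open Cfsg Module Matrix
open Cfsg.Agent.GLOrder Cfsg.Agent.SympGeom

variable {F : Type*} [Field F] {d k : ℕ}

/-- The space. -/
abbrev Sp2 (F : Type*) (d : ℕ) := Fin d ⊕ Fin d → F

/-- The hypotheses on the subalgebra. -/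
structure Data (k : ℕ) (K : Subalgebra F (Matrix (Fin d ⊕ Fin d) (Fin d ⊕ Fin d) F)) : Prop where
  field : Geo.IsFieldSubalgebra k K
  adj : Geo.IsSelfAdjointFor (sympForm d F) K
  alt : ∀ a ∈ K, ∀ v, sympForm d F (a *ᵥ v) v = 0
  prime : k.Prime
  pos : 0 < d

variable {K : Subalgebra F (Matrix (Fin d ⊕ Fin d) (Fin d ⊕ Fin d) F)} (D : Data k K)
include D

theorem Data.isField : IsField K := by
  have : Nonempty (Fin d) := ⟨⟨0, D.pos⟩⟩
  exact ⟨exists_pair_ne _, fun x y => Subtype.ext (D.field.comm _ x.2 _ y.2), fun {x} hx => by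
    obtain ⟨y, hy, h⟩ := D.field.inv _ x.2 (fun h => hx (Subtype.ext h))
    exact ⟨⟨y, hy⟩, Subtype.ext h⟩⟩

/-- The field structure. -/
@[reducible] noncomputable def Data.fieldInst : Field K := D.isField.toField

theorem Data.finite : Module.Finite F K :=
  Module.finite_of_finrank_pos (by rw [D.field.finrank_eq]; exact D.prime.pos)

omit D in
/-- Scalars commute with the action of matrices on vectors. -/
theorem isScalarTower : IsScalarTower F K (Sp2 F d) :=
  ⟨fun c a v => by
    show ((c • a : K) : Matrix (Fin d ⊕ Fin d) (Fin d ⊕ Fin d) F) *ᵥ v = c • (a.1 *ᵥ v)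
    rw [Subalgebra.coe_smul, Matrix.smul_mulVec]⟩

/-- A subspace invariant under `K` has dimension divisible by `k`, and by `2 k` when non-degenerate. -/
theorem Data.finrank_dvd (W : Submodule F (Sp2 F d)) (hW : ∀ a ∈ K, ∀ w ∈ W, a *ᵥ w ∈ W) :
    k ∣ finrank F W ∧
      ((∀ x ∈ W, (∀ z ∈ W, sympB d F x z = 0) → x = 0) → 2 * k ∣ finrank F W) := by
  classical
  letI : Field K := D.fieldInst
  have hsmul : ∀ (a : K) (v : Sp2 F d), a • v = (a : Matrix (Fin d ⊕ Fin d) (Fin d ⊕ Fin d) F) *ᵥ v :=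
    fun _ _ => rfl
  have : IsScalarTower F K (Sp2 F d) := isScalarTower
  have : Module.Finite F K := D.finite
  let W' : Submodule K (Sp2 F d) :=
    { carrier := W, add_mem' := W.add_mem, zero_mem' := W.zero_mem, smul_mem' := fun a w hw => hW a a.2 w hw }
  have hdim : k * finrank K W' = finrank F W := by
    rw [← D.field.finrank_eq, Module.finrank_mul_finrank F K W']
    exact LinearEquiv.finrank_eq
      { toFun := fun w => (⟨w.1, w.2⟩ : W), map_add' := fun _ _ => rfl, map_smul' := fun _ _ => rfl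
        invFun := fun w => (⟨w.1, w.2⟩ : W'), left_inv := fun _ => rfl, right_inv := fun _ => rfl }
  refine ⟨⟨_, hdim.symm⟩, fun hnd => ?_⟩
  -- a maximal `K`-invariant totally isotropic subspace of `W`
  have hsym := PrimeGraphBC.IsSymF.of_alt (B := sympB d F) sympB_self sympB_nondeg
  have : Module.Finite K (Sp2 F d) := Module.Finite.of_restrictScalars_finite F K _
  let P : Submodule K (Sp2 F d) → Prop := fun L => L ≤ W' ∧ ∀ u ∈ L, ∀ v ∈ L, sympB d F u v = 0
  obtain ⟨L, hL, hmax⟩ : ∃ L, P L ∧ ∀ L', P L' → finrank K L' ≤ finrank K L := by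
    obtain ⟨n, ⟨L, hL, rfl⟩, hn⟩ : ∃ n, (∃ L, P L ∧ finrank K L = n) ∧
        ∀ n', (∃ L, P L ∧ finrank K L = n') → n' ≤ n := by
      have hex : ∃ n, ∃ L, P L ∧ finrank K L = n :=
        ⟨0, ⊥, ⟨bot_le, fun u hu v _ => by
          rw [Submodule.mem_bot] at hu; rw [hu, map_zero, LinearMap.zero_apply]⟩, finrank_bot K _⟩
      have hb : BddAbove {n | ∃ L, P L ∧ finrank K L = n} := ⟨finrank K (Sp2 F d), fun n ⟨L, _, h⟩ =>
        h ▸ Submodule.finrank_le L⟩
      exact ⟨sSup {n | ∃ L, P L ∧ finrank K L = n}, Nat.sSup_mem hex hb, fun n h => le_csSup hb h⟩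
    exact ⟨L, hL, fun L' h' => hn _ ⟨L', h', rfl⟩⟩
  let LF : Submodule F (Sp2 F d) := L.restrictScalars F
  have hadj : ∀ a ∈ K, ∀ u v, sympB d F (a *ᵥ u) v = sympB d F u (a *ᵥ v) := fun a ha u v => by
    rw [sympB_eq_neg_sympForm, sympB_eq_neg_sympForm, D.adj a ha]
  -- `L` is its own orthogonal in `W`
  have horth : W ⊓ Elusive.orth (sympB d F) LF ≤ LF := by
    rintro u ⟨huW, hu⟩
    by_contra huL
    let L' : Submodule K (Sp2 F d) := L ⊔ Submodule.span K {u}
    have hlt : L < L' := lt_of_le_of_ne le_sup_left fun e => huL (by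
      show u ∈ L
      rw [e]; exact Submodule.mem_sup_right (Submodule.mem_span_singleton_self u))
    have hP : P L' := by
      refine ⟨sup_le hL.1 ((Submodule.span_singleton_le_iff_mem _ _).2 huW), fun x hx y hy => ?_⟩
      obtain ⟨l, hl, w, hw, rfl⟩ := Submodule.mem_sup.1 hx
      obtain ⟨l', hl', w', hw', rfl⟩ := Submodule.mem_sup.1 hy
      obtain ⟨a, rfl⟩ := Submodule.mem_span_singleton.1 hw
      obtain ⟨b, rfl⟩ := Submodule.mem_span_singleton.1 hw'
      have h1 : ∀ l ∈ L, ∀ a : K, sympB d F l (a • u) = 0 := fun l hl a => by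
        rw [hsmul, ← hadj a a.2]
        exact hu _ (L.smul_mem a hl)
      have h2 : sympB d F (a • u) (b • u) = 0 := by
        rw [hsmul, hsmul, hadj a a.2, Matrix.mulVec_mulVec, sympB_swap, neg_eq_zero, sympB_eq_neg_sympForm,
          D.alt _ (K.mul_mem a.2 b.2), neg_zero]
      simp only [map_add, LinearMap.add_apply, hL.2 l hl l' hl', h1 l hl b, h2, add_zero, zero_add]
      rw [sympB_swap, h1 l' hl' a, neg_zero]
    exact absurd (hmax L' hP) (not_le.2 (Submodule.finrank_lt_finrank_of_lt hlt))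
  have hle : LF ≤ W ⊓ Elusive.orth (sympB d F) LF := fun x hx => ⟨hL.1 hx, fun s hs => hL.2 s hs x hx⟩
  have h := Elusive.finrank_inf_orth (B := sympB d F) hsym hnd (S := LF) (fun x hx => hL.1 hx)
  rw [le_antisymm horth hle] at h
  have hLk : k * finrank K L = finrank F LF := by
    rw [← D.field.finrank_eq, Module.finrank_mul_finrank F K L]
    rfl
  exact ⟨finrank K L, by rw [← h, ← hLk]; ring⟩

theorem Data.dvd_dim : k ∣ d := by
  obtain ⟨-, h⟩ := D.finrank_dvd ⊤ fun _ _ _ _ => trivial
  obtain ⟨c, hc⟩ := h fun x _ hx => sympB_nondeg x fun v => hx v trivial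
  rw [finrank_top, finrank_sympSpace] at hc
  exact ⟨c, by rw [mul_assoc] at hc; omega⟩

omit D in
/-- The fixed vectors of a matrix. -/
abbrev fixSpace (y : Matrix (Fin d ⊕ Fin d) (Fin d ⊕ Fin d) F) : Submodule F (Sp2 F d) :=
  PrimeOrderElt.fix (Matrix.toLin' y : Module.End F (Sp2 F d))

omit D in
theorem mem_fixSpace {y : Matrix (Fin d ⊕ Fin d) (Fin d ⊕ Fin d) F} {v : Sp2 F d} :
    v ∈ fixSpace y ↔ y *ᵥ v = v := by
  rw [fixSpace, PrimeOrderElt.mem_fix, Matrix.toLin'_apply]

/-- Fixed space of an element centralising `K`. -/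
theorem Data.fix_dvd (y : Matrix (Fin d ⊕ Fin d) (Fin d ⊕ Fin d) F) (hc : ∀ a ∈ K, y * a = a * y) :
    k ∣ finrank F (fixSpace y) ∧
      ((∀ x ∈ fixSpace y, (∀ z ∈ fixSpace y, sympB d F x z = 0) → x = 0) →
        2 * k ∣ finrank F (fixSpace y)) :=
  D.finrank_dvd _ fun a ha w hw => by
    rw [mem_fixSpace] at hw ⊢
    rw [Matrix.mulVec_mulVec, hc a ha, ← Matrix.mulVec_mulVec, hw]

omit D in
/-- Conjugation by a normalising element. -/
theorem conj_mem {g : GL (Fin d ⊕ Fin d) F} (hg : g ∈ Geo.subalgebraNormalizer K)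
    {a : Matrix (Fin d ⊕ Fin d) (Fin d ⊕ Fin d) F} (ha : a ∈ K) :
    g.1 * a * (g⁻¹ : GL (Fin d ⊕ Fin d) F).1 ∈ K := (hg a).1 ha

omit D in
/-- The automorphism of `K` induced by a normalising element. -/
noncomputable def conjAlg {g : GL (Fin d ⊕ Fin d) F} (hg : g ∈ Geo.subalgebraNormalizer K) :
    K →ₐ[F] K where
  toFun a := ⟨g.1 * a.1 * (g⁻¹ : GL (Fin d ⊕ Fin d) F).1, conj_mem hg a.2⟩
  map_one' := Subtype.ext (by simp)
  map_mul' a b := Subtype.ext (by simp [mul_assoc])
  map_zero' := Subtype.ext (by simp)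
  map_add' a b := Subtype.ext (by simp [mul_add, add_mul])
  commutes' c := Subtype.ext (by simp [Algebra.algebraMap_eq_smul_one])

omit D in
theorem conjAlg_apply {g : GL (Fin d ⊕ Fin d) F} (hg : g ∈ Geo.subalgebraNormalizer K) (a : K) :
    (conjAlg hg a : Matrix (Fin d ⊕ Fin d) (Fin d ⊕ Fin d) F) =
      g.1 * a.1 * (g⁻¹ : GL (Fin d ⊕ Fin d) F).1 := rfl

omit D in
theorem conjAlg_eq_self_iff {g : GL (Fin d ⊕ Fin d) F} (hg : g ∈ Geo.subalgebraNormalizer K) (a : K) :
    conjAlg hg a = a ↔ g.1 * a.1 = a.1 * g.1 := by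
  rw [Subtype.ext_iff, conjAlg_apply]
  exact Units.mul_inv_eq_iff_eq_mul g

/-- The elements fixed by a non-centralising element are scalars. -/
theorem Data.mem_bot_of_fixed {g : GL (Fin d ⊕ Fin d) F} (hg : g ∈ Geo.subalgebraNormalizer K)
    (hne : ¬ ∀ a ∈ K, g.1 * a = a * g.1) {a : K} (ha : conjAlg hg a = a) :
    a ∈ (⊥ : Subalgebra F K) := by
  letI : Field K := D.fieldInst
  have := Subalgebra.isSimpleOrder_of_finrank_prime F K (by rw [D.field.finrank_eq]; exact D.prime)
  have hE : a ∈ AlgHom.equalizer (conjAlg hg) (AlgHom.id F K) := ha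
  rcases eq_bot_or_eq_top (AlgHom.equalizer (conjAlg hg) (AlgHom.id F K)) with h | h
  · rwa [h] at hE
  · refine absurd (fun b hb => ?_) hne
    have hb' : (⟨b, hb⟩ : K) ∈ AlgHom.equalizer (conjAlg hg) (AlgHom.id F K) := by
      rw [h]; exact Algebra.mem_top
    exact (conjAlg_eq_self_iff hg ⟨b, hb⟩).1 hb'

/-- Fixed space of an element normalising but not centralising `K`. -/
theorem Data.fix_le {g : GL (Fin d ⊕ Fin d) F} (hg : g ∈ Geo.subalgebraNormalizer K)
    (hne : ¬ ∀ a ∈ K, g.1 * a = a * g.1) :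
    k * finrank F (fixSpace g.1) ≤ 2 * d := by
  classical
  letI : Field K := D.fieldInst
  have hsmul : ∀ (a : K) (v : Sp2 F d), a • v = (a : Matrix (Fin d ⊕ Fin d) (Fin d ⊕ Fin d) F) *ᵥ v :=
    fun _ _ => rfl
  have : IsScalarTower F K (Sp2 F d) := isScalarTower
  have : Module.Finite F K := D.finite
  have : Module.Finite K (Sp2 F d) := Module.Finite.of_restrictScalars_finite F K _
  let b := Module.finBasis F (fixSpace g.1)
  let w : Fin (finrank F (fixSpace g.1)) → Sp2 F d := fun i => (b i : Sp2 F d)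
  have hindF : LinearIndependent F w := b.linearIndependent.map' _ (Submodule.ker_subtype _)
  have hfix : ∀ i, g.1 *ᵥ w i = w i := fun i => mem_fixSpace.1 (b i).2
  have happly : ∀ (a : K) i, g.1 *ᵥ (a • w i) = conjAlg hg a • w i := fun a i => by
    have hinv : (g⁻¹ : GL (Fin d ⊕ Fin d) F).1 *ᵥ w i = w i := by
      conv_lhs => rw [← hfix i]
      rw [Matrix.mulVec_mulVec, Units.inv_mul, Matrix.one_mulVec]
    rw [hsmul, hsmul, conjAlg_apply, ← Matrix.mulVec_mulVec, hinv, ← Matrix.mulVec_mulVec]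
  have hind : LinearIndependent K w := by
    rw [linearIndependent_iff']
    intro s
    induction s using Finset.strongInduction with
    | _ s ih =>
      intro c hc i hi
      by_contra hci
      set c' : _ → K := fun j => (c i)⁻¹ * c j with hc'
      have hsum : ∑ j ∈ s, c' j • w j = 0 := by
        simp only [hc', mul_smul, ← Finset.smul_sum, hc, smul_zero]
      have hsum' : ∑ j ∈ s, conjAlg hg (c' j) • w j = 0 := by
        simp only [← happly, ← Matrix.mulVec_sum, hsum, Matrix.mulVec_zero]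
      have hi1 : c' i = 1 := inv_mul_cancel₀ hci
      have hzero : ∀ j ∈ s, conjAlg hg (c' j) = c' j := by
        intro j hj
        by_cases hji : j = i
        · rw [hji, hi1, map_one]
        refine sub_eq_zero.1 (ih (s.erase i) (Finset.erase_ssubset hi)
          (fun j => conjAlg hg (c' j) - c' j) ?_ j (Finset.mem_erase.2 ⟨hji, hj⟩))
        rw [Finset.sum_erase s (by rw [hi1, map_one, sub_self, zero_smul])]
        simp only [sub_smul, Finset.sum_sub_distrib, hsum, hsum', sub_self]
      choose φ hφ using fun j : s => Algebra.mem_bot.1 (D.mem_bot_of_fixed hg hne (hzero j j.2))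
      have hsumF : ∑ j : s, φ j • w j = 0 := by
        rw [← hsum, ← Finset.sum_coe_sort s (fun j => c' j • w j)]
        exact Finset.sum_congr rfl fun j _ => by rw [← hφ j, algebraMap_smul]
      have h0 := Fintype.linearIndependent_iff.1 (hindF.comp _ Subtype.val_injective) φ hsumF ⟨i, hi⟩
      have h1 := hφ ⟨i, hi⟩
      rw [h0, map_zero, hi1] at h1
      exact zero_ne_one h1
  have h := hind.fintype_card_le_finrank
  rw [Fintype.card_fin] at h
  calc k * finrank F (fixSpace g.1) ≤ k * finrank K (Sp2 F d) := Nat.mul_le_mul_left _ h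
    _ = 2 * d := by rw [← D.field.finrank_eq, Module.finrank_mul_finrank, finrank_sympSpace]

/-- An element of prime order normalising but not centralising `K` has order `k`. -/
theorem Data.eq_degree [Finite F] {r : ℕ} [Fact r.Prime] {g : GL (Fin d ⊕ Fin d) F} (hgr : g ^ r = 1)
    (hg : g ∈ Geo.subalgebraNormalizer K) (hne : ¬ ∀ a ∈ K, g.1 * a = a * g.1) : r = k := by
  classical
  letI : Field K := D.fieldInst
  have : Module.Finite F K := D.finite
  have : Finite K := Module.finite_of_finite F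
  let σ : K ≃ₐ[F] K := AlgEquiv.ofBijective (conjAlg hg)
    (Finite.injective_iff_bijective.1 (conjAlg hg).toRingHom.injective)
  have hpow : ∀ (n : ℕ) (a : K), ((σ ^ n) a : Matrix (Fin d ⊕ Fin d) (Fin d ⊕ Fin d) F) =
      (g ^ n).1 * a.1 * ((g ^ n)⁻¹ : GL (Fin d ⊕ Fin d) F).1 := by
    intro n
    induction n with
    | zero => intro a; simp
    | succ n ih =>
      intro a
      rw [pow_succ', AlgEquiv.mul_apply]
      show (conjAlg hg ((σ ^ n) a)).1 = _
      rw [conjAlg_apply, ih, pow_succ' g, _root_.mul_inv_rev]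
      simp only [Units.val_mul, mul_assoc]
  have hσr : σ ^ r = 1 := AlgEquiv.ext fun a => Subtype.ext (by
    rw [hpow, hgr]; simp)
  have hσ1 : σ ≠ 1 := fun h => hne fun a ha =>
    (conjAlg_eq_self_iff hg ⟨a, ha⟩).1 (AlgEquiv.congr_fun h ⟨a, ha⟩)
  have hdvd := orderOf_dvd_natCard σ
  rw [orderOf_eq_prime hσr hσ1] at hdvd
  have hcard : Nat.card (K ≃ₐ[F] K) = k := by
    rw [← D.field.finrank_eq]
    exact IsGalois.card_aut_eq_finrank F K
  rw [hcard] at hdvd
  exact (Nat.prime_dvd_prime_iff_eq Fact.out D.prime).1 hdvd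

/-- The symplectic group over `K` inside the normaliser. -/
theorem Data.dvd_card_normalizer [Fintype F] :
    ∃ m, d = m * k ∧ ∀ i ∈ Finset.range m, Fintype.card F ^ (2 * (k * (i + 1))) - 1 ∣
      Nat.card ↥(Cfsg.spGL d F ⊓ Geo.subalgebraNormalizer K) ∧
      (∏ i ∈ Finset.range m, (Fintype.card F ^ (2 * (k * (i + 1))) - 1)) ∣
        Nat.card ↥(Cfsg.spGL d F ⊓ Geo.subalgebraNormalizer K) := by
  classical
  obtain ⟨m, hm⟩ := D.dvd_dim
  rw [mul_comm] at hm
  refine ⟨m, hm, ?_⟩
  suffices h : (∏ i ∈ Finset.range m, (Fintype.card F ^ (2 * (k * (i + 1))) - 1)) ∣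
      Nat.card ↥(Cfsg.spGL d F ⊓ Geo.subalgebraNormalizer K) from
    fun i hi => ⟨(Finset.dvd_prod_of_mem _ hi).trans h, h⟩
  letI : Field K := D.fieldInst
  have hsmul : ∀ (a : K) (v : Sp2 F d), a • v = (a : Matrix (Fin d ⊕ Fin d) (Fin d ⊕ Fin d) F) *ᵥ v :=
    fun _ _ => rfl
  have : IsScalarTower F K (Sp2 F d) := isScalarTower
  have : Module.Finite F K := D.finite
  have : Finite K := Module.finite_of_finite F
  have : Module.Finite K (Sp2 F d) := Module.Finite.of_restrictScalars_finite F K _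
  have hadj : ∀ (a : K) u v, sympB d F (a • u) v = sympB d F u (a • v) := fun a u v => by
    rw [hsmul, hsmul, sympB_eq_neg_sympForm, sympB_eq_neg_sympForm, D.adj a a.2]
  obtain ⟨lam, hlam⟩ : ∃ lam : Module.Dual F K, lam ≠ 0 := exists_ne 0
  let μ : K →ₗ[F] Module.Dual F K :=
    { toFun := fun c => lam ∘ₗ LinearMap.mulLeft F c
      map_add' := fun a b => LinearMap.ext fun x => by simp [add_mul]
      map_smul' := fun a b => LinearMap.ext fun x => by simp }
  have hμ : Function.Bijective μ := by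
    have hinj : Function.Injective μ := by
      rw [injective_iff_map_eq_zero]
      intro c hc
      by_contra h0
      refine hlam (LinearMap.ext fun x => ?_)
      have := LinearMap.congr_fun hc (c⁻¹ * x)
      simpa [μ, ← mul_assoc, mul_inv_cancel₀ h0] using this
    exact ⟨hinj, (LinearMap.injective_iff_surjective_of_finrank_eq_finrank
      Subspace.dual_finrank_eq.symm).1 hinj⟩
  let φ : Sp2 F d → Sp2 F d → Module.Dual F K := fun u v =>
    { toFun := fun a => sympB d F (a • u) v
      map_add' := fun a b => by rw [add_smul, map_add, LinearMap.add_apply]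
      map_smul' := fun c a => by rw [smul_assoc, map_smul, LinearMap.smul_apply, RingHom.id_apply] }
  choose β hβ using fun u v => hμ.2 (φ u v)
  have hval : ∀ u v a, lam (β u v * a) = sympB d F (a • u) v := fun u v a => LinearMap.congr_fun (hβ u v) a
  have huniq : ∀ x y : K, (∀ a, lam (x * a) = lam (y * a)) → x = y :=
    fun x y h => hμ.1 (LinearMap.ext h)
  let B : LinearMap.BilinForm K (Sp2 F d) := LinearMap.mk₂ K β
    (fun u u' v => huniq _ _ fun a => by
      rw [add_mul, map_add, hval, hval, hval, smul_add, map_add, LinearMap.add_apply])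
    (fun c u v => huniq _ _ fun a => by
      rw [smul_eq_mul, mul_comm c (β u v), mul_assoc, hval, hval, smul_smul, mul_comm c a])
    (fun u v v' => huniq _ _ fun a => by rw [add_mul, map_add, hval, hval, hval, map_add])
    (fun c u v => huniq _ _ fun a => by
      rw [smul_eq_mul, mul_comm c (β u v), mul_assoc, hval, hval, mul_smul, hadj c])
  have hB : ∀ u v, lam (B u v) = sympB d F u v := fun u v => by
    show lam (β u v) = _
    rw [← mul_one (β u v), hval, one_smul]
  have halt : ∀ u, B u u = 0 := fun u => huniq _ _ fun a => by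
    show lam (β u u * a) = _
    rw [hval, zero_mul, map_zero, hsmul, sympB_eq_neg_sympForm, D.alt _ a.2, neg_zero]
  have hnd : ∀ u, (∀ v, B u v = 0) → u = 0 := fun u h => sympB_nondeg u fun v => by
    rw [← hB, h, map_zero]
  have hr : finrank K (Sp2 F d) = 2 * m := by
    have h := Module.finrank_mul_finrank F K (Sp2 F d)
    rw [D.field.finrank_eq, finrank_sympSpace] at h
    refine Nat.eq_of_mul_eq_mul_left D.prime.pos (h.trans ?_)
    rw [hm]; ring
  obtain ⟨Φ, hΦ⟩ := exists_sympEquiv B halt hnd hr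
  let S := Matrix.symplecticGroup (Fin m) K
  let E : S →* Module.End F (Sp2 F d) :=
    { toFun := fun x => ((Φ.toLinearMap ∘ₗ Matrix.mulVecLin x.1 ∘ₗ Φ.symm.toLinearMap).restrictScalars F)
      map_one' := LinearMap.ext fun v => by simp
      map_mul' := fun x y => LinearMap.ext fun v => by simp [Matrix.mulVec_mulVec] }
  let ψ : S →* GL (Fin d ⊕ Fin d) F :=
    MonoidHom.toHomUnits ((Matrix.toLinAlgEquiv' (R := F) (n := Fin d ⊕ Fin d)).symm.toMonoidHom.comp E)
  have hψ : ∀ x v, (ψ x).1 *ᵥ v = Φ (x.1 *ᵥ Φ.symm v) := fun x v =>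
    LinearMap.congr_fun ((Matrix.toLinAlgEquiv' (R := F) (n := Fin d ⊕ Fin d)).apply_symm_apply (E x)) v
  have hmem : ∀ x, ψ x ∈ Cfsg.spGL d F ⊓ Geo.subalgebraNormalizer K := by
    intro x
    refine ⟨fun u v => ?_, fun a => ?_⟩
    · show sympForm d F ((ψ x).1 *ᵥ u) ((ψ x).1 *ᵥ v) = sympForm d F u v
      refine neg_injective ?_
      rw [← sympB_eq_neg_sympForm, ← sympB_eq_neg_sympForm, ← hB, ← hB, hψ, hψ, hΦ]
      conv_rhs => rw [← Φ.apply_symm_apply u, ← Φ.apply_symm_apply v, hΦ]
      congr 1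
      exact (mem_symplecticGroup_iff_preserves x.1).1 x.2 _ _
    · have hcomm : ∀ y : S, ∀ b ∈ K, (ψ y).1 * b = b * (ψ y).1 := fun y b hb => by
        refine Matrix.ext_iff_mulVec.2 fun v => ?_
        rw [← Matrix.mulVec_mulVec, ← Matrix.mulVec_mulVec, hψ, hψ, ← hsmul ⟨b, hb⟩, ← hsmul ⟨b, hb⟩,
          map_smul, Matrix.mulVec_smul, map_smul]
      constructor
      · intro ha
        rw [hcomm x a ha, mul_assoc, ← Units.val_mul, mul_inv_cancel, Units.val_one, mul_one]
        exact ha
      · intro ha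
        have h := hcomm x⁻¹ _ ha
        rw [map_inv] at h
        have e : a = (((ψ x)⁻¹ : GL (Fin d ⊕ Fin d) F).1 *
            ((ψ x).1 * a * ((ψ x)⁻¹ : GL (Fin d ⊕ Fin d) F).1)) * (ψ x).1 := by
          simp [mul_assoc]
        rw [e, h, mul_assoc, ← Units.val_mul, inv_mul_cancel, Units.val_one, mul_one]
        exact ha
  let ψ' := ψ.codRestrict _ hmem
  have hinj : Function.Injective ψ' := fun x y h => Subtype.ext (Matrix.ext_iff_mulVec.2 fun v => by
    have h1 : (ψ x).1 *ᵥ Φ v = (ψ y).1 *ᵥ Φ v := by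
      rw [show ψ x = ψ y from congrArg Subtype.val h]
    rw [hψ, hψ, Φ.symm_apply_apply] at h1
    exact Φ.injective h1)
  have hdvd := Subgroup.card_dvd_of_injective ψ' hinj
  refine Dvd.dvd.trans ?_ hdvd
  rw [card_Sp, Module.natCard_eq_pow_finrank (K := F) (V := K), D.field.finrank_eq,
    Nat.card_eq_fintype_card]
  refine Dvd.dvd.mul_left (dvd_of_eq (Finset.prod_congr rfl fun i _ => ?_)) _
  rw [← pow_mul, mul_left_comm]

end Cfsg.Agent.SpFieldExt
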